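import Mathlib.LinearAlgebra.FreeModule.PID
import Mathlib.LinearAlgebra.Dual.Lemmas
import Mathlib.Algebra.Module.Torsion.Free

/-!
Helper lemmas on finite modules over a domain: a finite module contains a finite free
submodule `F` with `A • M ⊆ F` for some nonzero `A`.
-/

namespace Groth.Agent.Lib

open Module Submodule

theorem exists_linearIndependent_smul_mem_span (R : Type*) [CommRing R] [IsDomain R]
    (M : Type*) [AddCommGroup M] [Module R M] [Module.Finite R M] :
    ∃ (n : ℕ) (b : Fin n → M), LinearIndependent R b ∧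
      ∃ A : R, A ≠ 0 ∧ ∀ x : M, A • x ∈ span R (Set.range b) := by
  classical
  obtain ⟨m, s, hs⟩ := Module.Finite.exists_fin (R := R) (M := M)
  obtain ⟨I, hI, hmax⟩ := exists_maximal_linearIndepOn R s
  let e : Fin (Fintype.card I) ≃ I := (Fintype.equivFin I).symm
  refine ⟨Fintype.card I, fun k => s (e k).1, ?_, ?_⟩
  · have : LinearIndependent R (fun i : I => s i.1) := hI
    exact this.comp e e.injective
  · have hrange : Set.range (fun k => s (e k).1) = s '' I := by
      ext x
      constructor
      · rintro ⟨k, rfl⟩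
        exact ⟨(e k).1, (e k).2, rfl⟩
      · rintro ⟨i, hi, rfl⟩
        exact ⟨e.symm ⟨i, hi⟩, by simp⟩
    rw [hrange]
    have exists_a : ∀ i : Fin m, ∃ a : R, a ≠ 0 ∧ a • s i ∈ span R (s '' I) := by
      intro i
      by_cases hi : i ∈ I
      · exact ⟨1, one_ne_zero, by rw [one_smul]; exact subset_span ⟨i, hi, rfl⟩⟩
      · exact hmax i hi
    choose a ha ha' using exists_a
    refine ⟨∏ i, a i, Finset.prod_ne_zero_iff.mpr (fun i _ => ha i), fun x => ?_⟩
    have hx : x ∈ span R (Set.range s) := by rw [hs]; trivial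
    induction hx using Submodule.span_induction with
    | mem y hy =>
      obtain ⟨i, rfl⟩ := hy
      have : (∏ j ∈ ({i}ᶜ : Finset (Fin m)), a j) • a i • s i ∈ span R (s '' I) :=
        Submodule.smul_mem _ _ (ha' i)
      rwa [← mul_smul, ← Fintype.prod_eq_prod_compl_mul i] at this
    | zero => simp
    | add y z _ _ hy hz => rw [smul_add]; exact add_mem hy hz
    | smul r y _ hy => rw [smul_comm]; exact Submodule.smul_mem _ _ hy

theorem exists_coord (R : Type*) [CommRing R] [IsDomain R]
    (M : Type*) [AddCommGroup M] [Module R M] [Module.Finite R M] :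
    ∃ (n : ℕ) (b : Fin n → M) (A : R) (f : M →ₗ[R] (Fin n → R)), LinearIndependent R b ∧ A ≠ 0 ∧
      ∀ x : M, A • x = ∑ i, f x i • b i := by
  obtain ⟨n, b, hb, A, hA, h⟩ := exists_linearIndependent_smul_mem_span R M
  let g : M →ₗ[R] span R (Set.range b) := (LinearMap.lsmul R M A).codRestrict _ h
  let B := Basis.span hb
  refine ⟨n, b, A, (Finsupp.linearEquivFunOnFinite R R (Fin n)).toLinearMap ∘ₗ
    B.repr.toLinearMap ∘ₗ g, hb, hA, fun x => ?_⟩
  have h1 := B.sum_repr (g x)
  have h2 := congrArg Subtype.val h1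
  simp only [Submodule.coe_sum, Submodule.coe_smul] at h2
  have h3 : ((g x : span R (Set.range b)) : M) = A • x := rfl
  rw [← h3, ← h2]
  refine Finset.sum_congr rfl fun i _ => ?_
  simp [B, Basis.span_apply]

theorem exists_injective_of_isTorsionFree (R : Type*) [CommRing R] [IsDomain R]
    (M : Type*) [AddCommGroup M] [Module R M] [Module.Finite R M] [Module.IsTorsionFree R M] :
    ∃ (n : ℕ) (f : M →ₗ[R] (Fin n → R)), Function.Injective f := by
  obtain ⟨n, b, A, f, -, hA, h⟩ := exists_coord R M
  refine ⟨n, f, (injective_iff_map_eq_zero f).mpr fun x hx => ?_⟩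
  have h1 : A • x = 0 := by rw [h x, hx]; simp
  have hreg : IsSMulRegular M A := Module.IsTorsionFree.isSMulRegular (IsRegular.of_ne_zero hA)
  exact hreg (by simpa using h1)

end Groth.Agent.Lib
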