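import Groth.Agent.S6869
import Groth.Agent.S6870

/-!
Helper lemmas on reflexive modules over a domain.
-/

namespace Groth.Agent.Lib

open Module

universe u

/-- Kernel of a map from a reflexive module to a torsion free module is reflexive. -/
theorem isReflexive_of_exact (R : Type u) [CommRing R] [IsDomain R]
    {M M' M'' : Type u} [AddCommGroup M] [Module R M] [Module.Finite R M]
    [AddCommGroup M'] [Module R M'] [AddCommGroup M''] [Module R M'']
    (f : M →ₗ[R] M') (g : M' →ₗ[R] M'') (hf : Function.Injective f) (hfg : Function.Exact f g)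
    [Module.IsReflexive R M'] [Module.IsTorsionFree R M''] : Module.IsReflexive R M := by
  have htf : Module.IsTorsionFree R M :=
    Function.Injective.moduleIsTorsionFree f hf (fun r m => map_smul f r m)
  refine ⟨⟨(Groth.Agent.S6869.result R M).mpr htf, fun y => ?_⟩⟩
  obtain ⟨c, hc0, -, hc⟩ := Groth.Agent.S6870.result R M
  obtain ⟨x, hx⟩ := hc y
  obtain ⟨m', hm'⟩ := (Module.bijective_dual_eval R M').2 (f.dualMap.dualMap y)
  have hreg : IsRegular c := IsRegular.of_ne_zero hc0
  -- c • m' = f x
  have h1 : c • m' = f x := by
    apply (Module.bijective_dual_eval R M').1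
    rw [map_smul, hm', ← map_smul, ← hx]
    ext φ
    simp
  have h2 : g m' = 0 := by
    have : c • g m' = 0 := by
      rw [← map_smul, h1]
      exact hfg.apply_apply_eq_zero x
    have hreg'' : IsSMulRegular M'' c := Module.IsTorsionFree.isSMulRegular hreg
    exact hreg'' (by simpa using this)
  obtain ⟨x₀, hx₀⟩ := (hfg m').mp h2
  have h3 : c • x₀ = x := by
    apply hf
    rw [map_smul, hx₀, h1]
  refine ⟨x₀, ?_⟩
  have hreg2 : IsSMulRegular (Module.Dual R (Module.Dual R M)) c :=
    Module.IsTorsionFree.isSMulRegular hreg
  apply hreg2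
  change c • (Module.Dual.eval R M) x₀ = c • y
  rw [← map_smul, h3, hx]

/-- `Fin (n+1) → N ≃ N × (Fin n → N)` linearly. -/
def piFinSuccLinearEquiv (R : Type*) [CommRing R] (N : Type*) [AddCommGroup N] [Module R N] (n : ℕ) :
    (Fin (n + 1) → N) ≃ₗ[R] N × (Fin n → N) where
  toFun v := (v 0, Fin.tail v)
  invFun p := Fin.cons p.1 p.2
  map_add' v w := rfl
  map_smul' r v := rfl
  left_inv v := Fin.cons_self_tail v
  right_inv p := by simp

theorem isReflexive_pi_fin (R : Type*) [CommRing R] (N : Type*) [AddCommGroup N] [Module R N]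
    [Module.IsReflexive R N] (n : ℕ) : Module.IsReflexive R (Fin n → N) := by
  induction n with
  | zero =>
    have : Module.IsReflexive R (Fin 0 → R) := inferInstance
    exact Module.equiv (M := Fin 0 → R) (N := Fin 0 → N)
      { toFun := fun _ => 0, invFun := fun _ => 0, map_add' := by intros; simp,
        map_smul' := by intros; simp, left_inv := fun v => Subsingleton.elim _ _,
        right_inv := fun v => Subsingleton.elim _ _ }
  | succ n ih =>
    exact Module.equiv (piFinSuccLinearEquiv R N n).symm

theorem isReflexive_linearMap_pi_fin (R : Type*) [CommRing R] (N : Type*) [AddCommGroup N]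
    [Module R N] [Module.IsReflexive R N] (n : ℕ) :
    Module.IsReflexive R ((Fin n → R) →ₗ[R] N) := by
  have := isReflexive_pi_fin R N n
  exact Module.equiv (Module.piEquiv (Fin n) R N)

end Groth.Agent.Lib
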